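import Cfsg.Agent.H50.HerRel
import Cfsg.Agent.H50.HerNum

/-!
# Hering's theorem: numbers for the exceptional Chevalley groups `G₂(3)`, `G₂(4)`, `F₄(2)` (helper347)

* `num_g23`, `num_g24`, `num_f42` : the numerical elimination;
* `Rel.elim` : the three cases of `Rel`;
* `le_add_one`, … : prime divisors of `q ^ i - 1`.
-/

set_option autoImplicit false
set_option maxRecDepth 100000

namespace Cfsg.Agent.H347.Her.Chev

open Cfsg.Agent.H50.Her

/-- `G₂(3)` -/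
theorem num_g23 {p d b r R m' : ℕ} (hp : p.Prime) (hd : 3 ≤ d) (hL : Large p d r R) (hr : r ∣ 4245696)
    (hm' : m' ∣ 8491392) (hb : 0 < b) (hbd : b ∣ d) (hlt : b < d)
    (h3 : p ^ d - 1 ∣ (p ^ b - 1) * m') (h4 : 4245696 ∣ glCard p d) :
    (p, d) ∈ ([(3, 6), (17, 6)] : List (ℕ × ℕ)) :=
  no_of_check (fs := [(2, 7), (3, 6), (7, 1), (13, 1)])
    (xs := [(3, 17), (4, 8), (6, 24)]) (ex := [(3, 6), (17, 6)])
    (by decide +kernel) (by decide +kernel) (by decide +kernel) (by decide +kernel) (by decide +kernel)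
    hp hd hL hr (by norm_num) hm' hb hbd hlt h3 h4

/-- `G₂(4)` -/
theorem num_g24 {p d b r R m' : ℕ} (hp : p.Prime) (hd : 3 ≤ d) (hL : Large p d r R) (hr : r ∣ 251596800)
    (hm' : m' ∣ 503193600) (hb : 0 < b) (hbd : b ∣ d) (hlt : b < d)
    (h3 : p ^ d - 1 ∣ (p ^ b - 1) * m') (h4 : 251596800 ∣ glCard p d) :
    (p, d) ∈ ([(5, 6)] : List (ℕ × ℕ)) :=
  no_of_check (fs := [(2, 13), (3, 3), (5, 2), (7, 1), (13, 1)])
    (xs := [(3, 17), (4, 37), (6, 24)]) (ex := [(5, 6)])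
    (by decide +kernel) (by decide +kernel) (by decide +kernel) (by decide +kernel) (by decide +kernel)
    hp hd hL hr (by norm_num) hm' hb hbd hlt h3 h4

/-- `F₄(2)` -/
theorem num_f42 {p d b r R m' : ℕ} (hp : p.Prime) (hd : 3 ≤ d) (hL : Large p d r R) (hr : r ∣ 3311126603366400)
    (hm' : m' ∣ 6622253206732800) (hb : 0 < b) (hbd : b ∣ d) (hlt : b < d)
    (h3 : p ^ d - 1 ∣ (p ^ b - 1) * m') (h4 : 3311126603366400 ∣ glCard p d) :
    (p, d) ∈ ([] : List (ℕ × ℕ)) :=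
  no_of_check (fs := [(2, 25), (3, 6), (5, 2), (7, 2), (13, 1), (17, 1)])
    (xs := [(3, 44), (4, 149), (6, 62), (8, 4)]) (ex := [])
    (by decide +kernel) (by decide +kernel) (by decide +kernel) (by decide +kernel) (by decide +kernel)
    hp hd hL hr (by norm_num) hm' hb hbd hlt h3 h4

/-- the cases of `Rel` -/
theorem rel_elim {p d r R : ℕ} (h : Rel p d r R) : r.Prime ∧ d + 1 ≤ r ∧
    (2 * d + 1 ≤ r ∨ (Large p d r R ∧ R = r ^ 2 ∧ r = d + 1) ∨ (r = d + 1 ∧ Exc p d)) := by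
  rcases h with h | ⟨h1, -, h2⟩
  · rcases h.large with ⟨-, h3⟩ | ⟨h3, h4⟩
    · exact ⟨h.prime, by omega, Or.inl h3⟩
    · exact ⟨h.prime, h4.ge, Or.inr (Or.inl ⟨h, h3, h4⟩)⟩
  · refine ⟨?_, h1.ge, Or.inr (Or.inr ⟨h1, h2⟩)⟩
    subst h1
    rcases h2 with ⟨-, rfl | rfl | rfl⟩ | ⟨rfl, -⟩ <;> norm_num

/-! ### Prime divisors of `q ^ i - 1` -/

theorem le_of_pow {r q i : ℕ} (hr : r.Prime) (hq : 2 ≤ q) (h : r ∣ q ^ i) : r ≤ q :=
  Nat.le_of_dvd (by omega) (hr.dvd_of_dvd_pow h)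

theorem le_of_even {r q i j N : ℕ} (hr : r.Prime) (hq : 2 ≤ q) (hi : i = 2 * j) (hj : 0 < j) (hjN : j ≤ N)
    (h : r ∣ q ^ i - 1) : r ≤ q ^ N + 1 := by
  subst hi
  have h1 : q ^ (2 * j) - 1 = (q ^ j + 1) * (q ^ j - 1) := by
    rw [← Nat.sq_sub_sq, one_pow, ← pow_mul, mul_comm]
  have h2 : q ^ j ≤ q ^ N := Nat.pow_le_pow_right (by omega) hjN
  rw [h1] at h
  rcases (Nat.Prime.dvd_mul hr).1 h with h | h
  · exact (Nat.le_of_dvd (by omega) h).trans (by omega)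
  · have h3 : 1 < q ^ j := Nat.one_lt_pow hj.ne' (by omega)
    exact (Nat.le_of_dvd (by omega) h).trans (by omega)

theorem le_of_sub {r q i N : ℕ} (hq : 2 ≤ q) (hi : 0 < i) (hiN : i ≤ N) (h : r ∣ q ^ i - 1) : r ≤ q ^ N + 1 := by
  have h2 : q ^ i ≤ q ^ N := Nat.pow_le_pow_right (by omega) hiN
  have h3 : 1 < q ^ i := Nat.one_lt_pow hi.ne' (by omega)
  exact (Nat.le_of_dvd (by omega) h).trans (by omega)

theorem le_E8 {r q : ℕ} (hr : r.Prime) (hq : 2 ≤ q)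
    (h : r ∣ q ^ 120 * (q ^ 2 - 1) * (q ^ 8 - 1) * (q ^ 12 - 1) * (q ^ 14 - 1) * (q ^ 18 - 1) * (q ^ 20 - 1) *
      (q ^ 24 - 1) * (q ^ 30 - 1)) : r ≤ q ^ 15 + 1 := by
  simp only [Nat.Prime.dvd_mul hr] at h
  rcases h with (((((((h | h) | h) | h) | h) | h) | h) | h) | h
  · exact (le_of_pow hr hq h).trans ((Nat.le_self_pow (by norm_num) q).trans (Nat.le_succ _))
  · exact le_of_even (j := 1) hr hq (by norm_num) (by norm_num) (by norm_num) h
  · exact le_of_even (j := 4) hr hq (by norm_num) (by norm_num) (by norm_num) h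
  · exact le_of_even (j := 6) hr hq (by norm_num) (by norm_num) (by norm_num) h
  · exact le_of_even (j := 7) hr hq (by norm_num) (by norm_num) (by norm_num) h
  · exact le_of_even (j := 9) hr hq (by norm_num) (by norm_num) (by norm_num) h
  · exact le_of_even (j := 10) hr hq (by norm_num) (by norm_num) (by norm_num) h
  · exact le_of_even (j := 12) hr hq (by norm_num) (by norm_num) (by norm_num) h
  · exact le_of_even (j := 15) hr hq (by norm_num) (by norm_num) (by norm_num) h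

theorem le_E7 {r q : ℕ} (hr : r.Prime) (hq : 2 ≤ q)
    (h : r ∣ q ^ 63 * (q ^ 2 - 1) * (q ^ 6 - 1) * (q ^ 8 - 1) * (q ^ 10 - 1) * (q ^ 12 - 1) * (q ^ 14 - 1) *
      (q ^ 18 - 1)) : r ≤ q ^ 9 + 1 := by
  simp only [Nat.Prime.dvd_mul hr] at h
  rcases h with ((((((h | h) | h) | h) | h) | h) | h) | h
  · exact (le_of_pow hr hq h).trans ((Nat.le_self_pow (by norm_num) q).trans (Nat.le_succ _))
  · exact le_of_even (j := 1) hr hq (by norm_num) (by norm_num) (by norm_num) h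
  · exact le_of_even (j := 3) hr hq (by norm_num) (by norm_num) (by norm_num) h
  · exact le_of_even (j := 4) hr hq (by norm_num) (by norm_num) (by norm_num) h
  · exact le_of_even (j := 5) hr hq (by norm_num) (by norm_num) (by norm_num) h
  · exact le_of_even (j := 6) hr hq (by norm_num) (by norm_num) (by norm_num) h
  · exact le_of_even (j := 7) hr hq (by norm_num) (by norm_num) (by norm_num) h
  · exact le_of_even (j := 9) hr hq (by norm_num) (by norm_num) (by norm_num) h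

theorem le_E6 {r q : ℕ} (hr : r.Prime) (hq : 2 ≤ q)
    (h : r ∣ q ^ 36 * (q ^ 2 - 1) * (q ^ 5 - 1) * (q ^ 6 - 1) * (q ^ 8 - 1) * (q ^ 9 - 1) * (q ^ 12 - 1)) :
    r ≤ q ^ 9 + 1 := by
  simp only [Nat.Prime.dvd_mul hr] at h
  rcases h with (((((h | h) | h) | h) | h) | h) | h
  · exact (le_of_pow hr hq h).trans ((Nat.le_self_pow (by norm_num) q).trans (Nat.le_succ _))
  · exact le_of_even (j := 1) hr hq (by norm_num) (by norm_num) (by norm_num) h
  · exact le_of_sub hq (by norm_num) (by norm_num) h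
  · exact le_of_even (j := 3) hr hq (by norm_num) (by norm_num) (by norm_num) h
  · exact le_of_even (j := 4) hr hq (by norm_num) (by norm_num) (by norm_num) h
  · exact le_of_sub hq (by norm_num) (by norm_num) h
  · exact le_of_even (j := 6) hr hq (by norm_num) (by norm_num) (by norm_num) h

theorem le_F4 {r q : ℕ} (hr : r.Prime) (hq : 2 ≤ q)
    (h : r ∣ q ^ 24 * (q ^ 2 - 1) * (q ^ 6 - 1) * (q ^ 8 - 1) * (q ^ 12 - 1)) : r ≤ q ^ 4 + 1 := by
  simp only [Nat.Prime.dvd_mul hr] at h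
  rcases h with (((h | h) | h) | h) | h
  · exact (le_of_pow hr hq h).trans ((Nat.le_self_pow (by norm_num) q).trans (Nat.le_succ _))
  · exact le_of_even (j := 1) hr hq (by norm_num) (by norm_num) (by norm_num) h
  · exact le_of_even (j := 3) hr hq (by norm_num) (by norm_num) (by norm_num) h
  · exact le_of_even (j := 4) hr hq (by norm_num) (by norm_num) (by norm_num) h
  · have h1 : q ^ 12 - 1 = (q ^ 6 + 1) * (q ^ 6 - 1) := by
      rw [← Nat.sq_sub_sq, one_pow, ← pow_mul]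
    rw [h1] at h
    rcases (Nat.Prime.dvd_mul hr).1 h with h | h
    · obtain ⟨m, hm⟩ : ∃ m, q ^ 4 + 1 = m + q ^ 2 ∧ 0 < m := by
        refine ⟨q ^ 4 + 1 - q ^ 2, ?_, ?_⟩
        · have : q ^ 2 ≤ q ^ 4 := Nat.pow_le_pow_right (by omega) (by norm_num)
          omega
        · have : q ^ 2 ≤ q ^ 4 := Nat.pow_le_pow_right (by omega) (by norm_num)
          omega
      have h2 : q ^ 6 + 1 = (q ^ 2 + 1) * m := by
        have h3 : (q ^ 2 + 1) * (q ^ 4 + 1) = (q ^ 2 + 1) * m + (q ^ 2 + 1) * q ^ 2 := by rw [hm.1]; ring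
        have h4 : (q ^ 2 + 1) * (q ^ 4 + 1) = (q ^ 6 + 1) + (q ^ 2 + 1) * q ^ 2 := by ring
        omega
      rw [h2] at h
      have h5 : q ^ 2 ≤ q ^ 4 := Nat.pow_le_pow_right (by omega) (by norm_num)
      rcases (Nat.Prime.dvd_mul hr).1 h with h | h
      · exact (Nat.le_of_dvd (by omega) h).trans (by omega)
      · exact (Nat.le_of_dvd hm.2 h).trans (by omega)
    · exact le_of_even (j := 3) hr hq (by norm_num) (by norm_num) (by norm_num) h

/-- `G₂` -/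
theorem G2_cases {r q : ℕ} (hr : r.Prime) (hq : 3 ≤ q) (hrq : q * (q - 1) + 1 ≤ r)
    (h : r ∣ q ^ 6 * (q ^ 2 - 1) * (q ^ 6 - 1)) : r ≤ q ^ 2 + q + 1 ∧ ¬ r ^ 2 ∣ q ^ 6 * (q ^ 2 - 1) * (q ^ 6 - 1) := by
  obtain ⟨k, rfl⟩ : ∃ k, q = k + 3 := ⟨q - 3, by omega⟩
  have e1 : (k + 3) * (k + 3 - 1) + 1 = k ^ 2 + 5 * k + 7 := by
    rw [show k + 3 - 1 = k + 2 by omega]; ring
  rw [e1] at hrq
  have e2 : (k + 3) ^ 2 - 1 = (k + 4) * (k + 2) := by
    have : (k + 3) ^ 2 = (k + 4) * (k + 2) + 1 := by ring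
    omega
  have e3 : (k + 3) ^ 6 - 1 = (k + 4) * (k + 2) * (k ^ 2 + 7 * k + 13) * (k ^ 2 + 5 * k + 7) := by
    have : (k + 3) ^ 6 = (k + 4) * (k + 2) * (k ^ 2 + 7 * k + 13) * (k ^ 2 + 5 * k + 7) + 1 := by ring
    omega
  have n1 : ¬ r ∣ (k + 3) := fun h => by
    have := Nat.le_of_dvd (by omega) h
    nlinarith
  have n2 : ¬ r ∣ (k + 4) := fun h => by
    have := Nat.le_of_dvd (by omega) h
    nlinarith
  have n3 : ¬ r ∣ (k + 2) := fun h => by
    have := Nat.le_of_dvd (by omega) h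
    nlinarith
  rw [e2, e3] at h ⊢
  have e4 : (k + 3) ^ 6 * ((k + 4) * (k + 2)) * ((k + 4) * (k + 2) * (k ^ 2 + 7 * k + 13) * (k ^ 2 + 5 * k + 7)) =
      ((k + 3) ^ 6 * (k + 4) ^ 2 * (k + 2) ^ 2) * ((k ^ 2 + 7 * k + 13) * (k ^ 2 + 5 * k + 7)) := by ring
  rw [e4] at h ⊢
  have hco : Nat.Coprime r ((k + 3) ^ 6 * (k + 4) ^ 2 * (k + 2) ^ 2) := by
    rw [Nat.Prime.coprime_iff_not_dvd hr]
    intro h
    simp only [Nat.Prime.dvd_mul hr] at h
    rcases h with (h | h) | h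
    · exact n1 (hr.dvd_of_dvd_pow h)
    · exact n2 (hr.dvd_of_dvd_pow h)
    · exact n3 (hr.dvd_of_dvd_pow h)
  have h1 : r ∣ (k ^ 2 + 7 * k + 13) * (k ^ 2 + 5 * k + 7) := hco.dvd_of_dvd_mul_left h
  constructor
  · have e5 : (k + 3) ^ 2 + (k + 3) + 1 = k ^ 2 + 7 * k + 13 := by ring
    rw [e5]
    rcases (Nat.Prime.dvd_mul hr).1 h1 with h | h
    · exact Nat.le_of_dvd (by omega) h
    · exact (Nat.le_of_dvd (by omega) h).trans (by omega)
  · intro h2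
    have h3 : r ^ 2 ∣ (k ^ 2 + 7 * k + 13) * (k ^ 2 + 5 * k + 7) := (Nat.Coprime.pow_left 2 hco).dvd_of_dvd_mul_left h2
    -- `r` does not divide both factors
    have h4 : ¬ (r ∣ k ^ 2 + 7 * k + 13 ∧ r ∣ k ^ 2 + 5 * k + 7) := by
      rintro ⟨h5, h6⟩
      have h7 := Nat.dvd_sub h5 h6
      have h8 : k ^ 2 + 7 * k + 13 - (k ^ 2 + 5 * k + 7) = 2 * (k + 3) := by omega
      rw [h8] at h7
      rcases (Nat.Prime.dvd_mul hr).1 h7 with h9 | h9
      · have := Nat.le_of_dvd (by omega) h9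
        nlinarith
      · exact n1 h9
    have hpos : k ^ 2 + 7 * k + 13 < r ^ 2 := by nlinarith
    rcases (Nat.Prime.dvd_mul hr).1 h1 with h | h
    · have h5 : Nat.Coprime r (k ^ 2 + 5 * k + 7) := (Nat.Prime.coprime_iff_not_dvd hr).2 fun h6 => h4 ⟨h, h6⟩
      have h6 : r ^ 2 ∣ k ^ 2 + 7 * k + 13 := (Nat.Coprime.pow_left 2 h5).dvd_of_dvd_mul_right h3
      have := Nat.le_of_dvd (by omega) h6
      omega
    · have h5 : Nat.Coprime r (k ^ 2 + 7 * k + 13) := (Nat.Prime.coprime_iff_not_dvd hr).2 fun h6 => h4 ⟨h6, h⟩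
      have h6 : r ^ 2 ∣ k ^ 2 + 5 * k + 7 := (Nat.Coprime.pow_left 2 h5).dvd_of_dvd_mul_left h3
      have := Nat.le_of_dvd (by omega) h6
      omega

end Cfsg.Agent.H347.Her.Chev
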